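import Groth.Agent.HTopUltra.HSheaf
import Groth.Agent.HTopSq.Basic
import Groth.Prelude.Def_HTop3

/-!
# Sieves along which a presheaf satisfies descent universally

For a Zariski sheaf `F` on schemes over `S` with descent along surjective flat proper morphisms and along
almost blow up squares whose centre is cut out by two functions, we record the sieves on arbitrary schemes all
of whose pullbacks to schemes over `S` are covering for the finest topology making `F` a sheaf.
-/

set_option autoImplicit false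
set_option linter.style.haveILetI false

universe w u

open CategoryTheory CategoryTheory.Limits AlgebraicGeometry TopologicalSpace Opposite

namespace Groth.Agent.HTopFlat

variable {S : Scheme.{u}}

/-- The sieve on a scheme over `S` of maps carried by `g` into a given sieve. -/
def pullSieve {U : Scheme.{u}} {Y : Over S} (g : Y.left ⟶ U) (R : Sieve U) : Sieve Y where
  arrows _ h := R (h.left ≫ g)
  downward_closed {_ _ h} hh k := by
    show R ((k ≫ h).left ≫ g)
    rw [Over.comp_left, Category.assoc]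
    exact R.downward_closed hh k.left

theorem pullSieve_apply {U : Scheme.{u}} {Y Z : Over S} (g : Y.left ⟶ U) (R : Sieve U) (h : Z ⟶ Y) :
    pullSieve g R h ↔ R (h.left ≫ g) := Iff.rfl

theorem pullSieve_pullback {U : Scheme.{u}} {Y Z : Over S} (g : Y.left ⟶ U) (R : Sieve U) (k : Z ⟶ Y) :
    (pullSieve g R).pullback k = pullSieve (k.left ≫ g) R := by
  ext W h
  show R ((h ≫ k).left ≫ g) ↔ R (h.left ≫ k.left ≫ g)
  rw [Over.comp_left, Category.assoc]

variable (F : (Over S)ᵒᵖ ⥤ Type w)

/-- All pullbacks to schemes over `S` are covering for the finest topology making `F` a sheaf. -/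
def Fine {U : Scheme.{u}} (R : Sieve U) : Prop :=
  ∀ (Y : Over S) (g : Y.left ⟶ U), pullSieve g R ∈ Sheaf.finestTopology {F} Y

variable {F}

theorem Fine.superset {U : Scheme.{u}} {R R' : Sieve U} (h : Fine F R) (hle : R ≤ R') : Fine F R' :=
  fun Y g => (Sheaf.finestTopology {F}).superset_covering (fun _ _ hk => hle _ hk) (h Y g)

theorem Fine.top (U : Scheme.{u}) : Fine F (⊤ : Sieve U) := fun Y g => by
  have : pullSieve g (⊤ : Sieve U) = ⊤ := by ext; exact iff_of_true trivial trivial
  rw [this]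
  exact (Sheaf.finestTopology {F}).top_mem Y

theorem Fine.pullback {U V : Scheme.{u}} {R : Sieve U} (h : Fine F R) (f : V ⟶ U) : Fine F (R.pullback f) := by
  intro Y g
  have : pullSieve g (R.pullback f) = pullSieve (g ≫ f) R := by
    ext Z k
    show R ((k.left ≫ g) ≫ f) ↔ R (k.left ≫ g ≫ f)
    rw [Category.assoc]
  rw [this]
  exact h Y _

theorem Fine.trans {U : Scheme.{u}} {R R' : Sieve U} (h : Fine F R)
    (h' : ∀ ⦃W : Scheme.{u}⦄ (a : W ⟶ U), R a → Fine F (R'.pullback a)) : Fine F R' := by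
  intro Y g
  refine (Sheaf.finestTopology {F}).transitive (h Y g) _ fun Z k hk => ?_
  rw [pullSieve_pullback]
  have : pullSieve (k.left ≫ g) R' = pullSieve (𝟙 Z.left) (R'.pullback (k.left ≫ g)) := by
    ext W m
    show R' (m.left ≫ k.left ≫ g) ↔ R' ((m.left ≫ 𝟙 _) ≫ k.left ≫ g)
    rw [Category.comp_id]
  rw [this]
  exact h' _ hk Z _

theorem Fine.trans_generate {U : Scheme.{u}} {P : Presieve U} {R' : Sieve U} (h : Fine F (Sieve.generate P))
    (h' : ∀ ⦃W : Scheme.{u}⦄ (a : W ⟶ U), P a → Fine F (R'.pullback a)) : Fine F R' :=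
  h.trans fun W a ⟨W', l, b, hb, hlb⟩ => by
    rw [← hlb, Sieve.pullback_comp]
    exact (h' b hb).pullback l

variable (hz : Presieve.IsSheaf (Scheme.zariskiTopology.over S) F)

include hz

/-- It suffices to test on affine schemes over `S`. -/
theorem fine_of_affine {U : Scheme.{u}} (R : Sieve U)
    (H : ∀ (Y : Over S) (g : Y.left ⟶ U), IsAffine Y.left → Presieve.IsSheafFor F (pullSieve g R).arrows) :
    Fine F R := by
  intro Y g
  refine Sheaf.mem_finestTopology_of_forall_isSheafFor fun P hP Z k => ?_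
  obtain rfl := Set.mem_singleton_iff.1 hP
  refine HTopUltra.HSheaf.isSheafFor_of_affine hz _ fun W a hW => ?_
  rw [← Sieve.pullback_comp, pullSieve_pullback]
  exact H W _ hW

/-- Zariski coverings. -/
theorem fine_openCover {U : Scheme.{u}} (𝒰 : Scheme.OpenCover.{u} U) (R : Sieve U) (hR : ∀ k, R (𝒰.f k)) :
    Fine F R := by
  intro Y g
  have hzle : Scheme.zariskiTopology.over S ≤ Sheaf.finestTopology {F} :=
    Sheaf.le_finestTopology _ _ fun G hG => by obtain rfl := Set.mem_singleton_iff.1 hG; exact hz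
  refine (Sheaf.finestTopology {F}).superset_covering ?_
    (hzle _ (HTopUltra.HSheaf.openCover_mem Y (𝒰.pullback₁ g)))
  rw [Sieve.generate_le_iff]
  rintro _ _ ⟨k⟩
  show R (pullback.fst g (𝒰.f k) ≫ g)
  rw [pullback.condition]
  exact R.downward_closed (hR k) _

/-- Checking fineness on the members of an open cover. -/
theorem fine_of_openCover {U : Scheme.{u}} (𝒰 : Scheme.OpenCover.{u} U) (R : Sieve U)
    (h : ∀ k, Fine F (R.pullback (𝒰.f k))) : Fine F R :=
  (fine_openCover hz 𝒰 (Sieve.generate (Presieve.ofArrows 𝒰.X 𝒰.f))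
    fun k => Sieve.le_generate _ _ _ ⟨k⟩).trans_generate fun _ _ ⟨k⟩ => h k

/-- Surjective flat proper morphisms of finite presentation. -/
theorem fine_flat
    (hfl : ∀ (X Y : Over S) (f : X ⟶ Y), IsAffine Y.left → Surjective f.left → Flat f.left → IsProper f.left →
      LocallyOfFinitePresentation f.left → Presieve.IsSheafFor F (Presieve.singleton f))
    {U V : Scheme.{u}} (f : V ⟶ U) [Flat f] [Surjective f] [IsProper f] [LocallyOfFinitePresentation f] :
    Fine F (Sieve.generate (Presieve.singleton f)) := by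
  refine fine_of_affine hz _ fun Y₀ g hY => ?_
  let Q : Over S := Over.mk (pullback.fst g f ≫ Y₀.hom)
  let q : Q ⟶ Y₀ := Over.homMk (pullback.fst _ _) rfl
  have he : pullSieve g (Sieve.generate (Presieve.singleton f)) = Sieve.generate (Presieve.singleton q) := by
    refine le_antisymm ?_ ?_
    · rintro Z h ⟨Z', l, k, ⟨⟩, hl⟩
      refine ⟨Q, Over.homMk (pullback.lift h.left l hl.symm) ?_, q, ⟨⟩,
        Over.OverMorphism.ext (pullback.lift_fst _ _ _)⟩
      show pullback.lift _ _ _ ≫ pullback.fst _ _ ≫ Y₀.hom = Z.hom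
      rw [pullback.lift_fst_assoc]
      exact Over.w h
    · rw [Sieve.generate_le_iff]
      rintro Z h ⟨⟩
      exact ⟨V, pullback.snd g f, f, ⟨⟩, pullback.condition.symm⟩
  rw [he, ← Presieve.isSheafFor_iff_generate]
  exact hfl Q Y₀ q hY (MorphismProperty.pullback_fst g f ‹Surjective f›)
    (MorphismProperty.pullback_fst g f ‹Flat f›) (MorphismProperty.pullback_fst g f ‹IsProper f›)
    (MorphismProperty.pullback_fst g f ‹LocallyOfFinitePresentation f›)

/-- The two legs of an almost blow up square with centre cut out by two functions. -/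
theorem fine_square
    (hsq : ∀ (E Z X' X : Over S) (e : E ⟶ X') (π : E ⟶ Z) (b : X' ⟶ X) (i : Z ⟶ X), IsAffine X.left →
      HTop.IsAlmostBlowUpSquare e.left π.left b.left i.left →
      (∃ f₁ f₂ : Γ(X.left, ⊤), i.left.ker = Scheme.IdealSheafData.ofIdealTop (Ideal.span {f₁, f₂})) →
      ∀ (t : F.obj (op Z)) (s' : F.obj (op X')), F.map π.op t = F.map e.op s' →
        ∃! s : F.obj (op X), F.map i.op s = t ∧ F.map b.op s = s')
    {E Z B U : Scheme.{u}} [IsAffine U] {e : E ⟶ B} {π : E ⟶ Z} {b : B ⟶ U} {i : Z ⟶ U}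
    (h : HTop.IsAlmostBlowUpSquare e π b i) (f₁ f₂ : Γ(U, ⊤))
    (hi : i.ker = Scheme.IdealSheafData.ofIdealTop (Ideal.span {f₁, f₂})) (R : Sieve U) (hRi : R i) (hRb : R b) :
    Fine F R := by
  classical
  haveI := h.isClosedImmersion
  let R₀ : Sieve U := Sieve.generate (Presieve.singleton i ⊔ Presieve.singleton b)
  suffices hR₀ : Fine F R₀ from hR₀.superset (by
    rw [Sieve.generate_le_iff]
    rintro _ _ (⟨⟨⟩⟩ | ⟨⟨⟩⟩) <;> assumption)
  refine fine_of_affine hz _ fun Y₀ g hY => ?_
  let gX := pullback.fst b g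
  let b₁ := pullback.snd b g
  let gZ := pullback.fst i g
  let i₁ := pullback.snd i g
  let gE := pullback.fst e gX
  let e₁ := pullback.snd e gX
  let hZ : IsPullback gZ i₁ i g := .of_hasPullback i g
  let π₁ : pullback e gX ⟶ pullback i g := hZ.lift (gE ≫ π) (e₁ ≫ b₁) (by
    rw [Category.assoc, Category.assoc, ← h.isPullback.w, ← pullback.condition, ← pullback.condition_assoc])
  have h₁ : HTop.IsAlmostBlowUpSquare e₁ π₁ b₁ i₁ :=
    HTopSq.isAlmostBlowUpSquare_baseChange h g (.of_hasPullback b g) hZ (.of_hasPullback e gX) (hZ.lift_snd _ _ _)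
  let Xo : Over S := Over.mk (b₁ ≫ Y₀.hom)
  let Zo : Over S := Over.mk (i₁ ≫ Y₀.hom)
  let Eo : Over S := Over.mk (e₁ ≫ b₁ ≫ Y₀.hom)
  let eo : Eo ⟶ Xo := Over.homMk e₁ rfl
  let πo : Eo ⟶ Zo := Over.homMk π₁ (by
    show π₁ ≫ i₁ ≫ Y₀.hom = e₁ ≫ b₁ ≫ Y₀.hom
    rw [← Category.assoc, hZ.lift_snd, Category.assoc])
  let bo : Xo ⟶ Y₀ := Over.homMk b₁ rfl
  let io : Zo ⟶ Y₀ := Over.homMk i₁ rfl
  have hker : ∃ a₁ a₂ : Γ(Y₀.left, ⊤), i₁.ker = Scheme.IdealSheafData.ofIdealTop (Ideal.span {a₁, a₂}) := by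
    refine ⟨g.appTop f₁, g.appTop f₂, Scheme.IdealSheafData.ext_of_isAffine ?_⟩
    rw [HTopSq.ker_isPullback hZ, hi, IdealSh.Comap.ofIdealTop_comap, Ideal.map_span, Set.image_pair]
    simp [Scheme.Hom.appLE]
  let T : Bool → Over S := fun k => Bool.casesOn k Zo Xo
  let a : ∀ k, T k ⟶ Y₀ := fun k => match k with | false => io | true => bo
  have he : pullSieve g R₀ = Sieve.generate (Presieve.ofArrows T a) := by
    refine le_antisymm ?_ ?_
    · rintro W k ⟨W', l, c, (⟨⟨⟩⟩ | ⟨⟨⟩⟩), hl⟩
      · refine ⟨Zo, Over.homMk (pullback.lift l k.left hl) ?_, io, Presieve.ofArrows.mk false,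
          Over.OverMorphism.ext (pullback.lift_snd _ _ _)⟩
        show pullback.lift _ _ _ ≫ i₁ ≫ Y₀.hom = W.hom
        rw [pullback.lift_snd_assoc]
        exact Over.w k
      · refine ⟨Xo, Over.homMk (pullback.lift l k.left hl) ?_, bo, Presieve.ofArrows.mk true,
          Over.OverMorphism.ext (pullback.lift_snd _ _ _)⟩
        show pullback.lift _ _ _ ≫ b₁ ≫ Y₀.hom = W.hom
        rw [pullback.lift_snd_assoc]
        exact Over.w k
    · rw [Sieve.generate_le_iff]
      rintro W k ⟨(_ | _)⟩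
      · exact ⟨Z, gZ, i, Or.inl ⟨⟩, pullback.condition⟩
      · exact ⟨B, gX, b, Or.inr ⟨⟩, pullback.condition⟩
  rw [he, ← Presieve.isSheafFor_iff_generate, Presieve.isSheafFor_arrows_iff]
  intro x hx
  obtain ⟨s, ⟨hs₁, hs₂⟩, hsu⟩ := hsq Eo Zo Xo Y₀ eo πo bo io hY h₁ hker (x false) (x true)
    (hx false true Eo πo eo (Over.OverMorphism.ext (by
      show π₁ ≫ i₁ = e₁ ≫ b₁
      exact hZ.lift_snd _ _ _)))
  refine ⟨s, fun k => ?_, fun s' hs' => hsu s' ⟨hs' false, hs' true⟩⟩
  cases k
  · exact hs₁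
  · exact hs₂

end Groth.Agent.HTopFlat
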