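import Groth.Agent.HTopFlat.Noeth
import Groth.Agent.HTopLib.Square
import Groth.Agent.LimLib.Props

/-!
# Proper surjections of finite presentation onto affine schemes satisfy descent

A proper surjection of finite presentation onto an affine scheme is refined by a Zariski covering of the base change
of a proper surjection onto an affine Noetherian scheme.
-/

set_option autoImplicit false
set_option linter.style.haveILetI false

universe v w u

open CategoryTheory CategoryTheory.Limits AlgebraicGeometry TopologicalSpace Opposite Groth.Agent.LimLib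
open Groth.Agent.HTopUltra

namespace Groth.Agent.HTopFlat

/-- The proper surjection refining a V covering of an affine scheme comes from a Noetherian affine scheme. -/
theorem exists_proper_refining_model {X : Scheme.{u}} [IsAffine X] (E : PreZeroHypercover.{v} X)
    (hlfp : ∀ i, LocallyOfFinitePresentation (E.f i)) (hE : HTop.IsVCover E) :
    ∃ (X₀ P : Scheme.{u}) (σ : X ⟶ X₀) (ρ : P ⟶ X₀), IsAffine X₀ ∧ IsLocallyNoetherian X₀ ∧ IsProper ρ ∧
      Surjective ρ ∧ ∀ y : (pullback ρ σ : Scheme.{u}), ∃ U : (pullback ρ σ).Opens, y ∈ U ∧ IsAffineOpen U ∧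
        ∃ (i : E.I₀) (h : (U : Scheme.{u}) ⟶ E.X i), h ≫ E.f i = U.ι ≫ pullback.snd ρ σ := by
  classical
  obtain ⟨n, iV, V, hV, hlift⟩ := exists_finite_affine_lifting E hE
  haveI : ∀ k, IsAffine (V k : Scheme.{u}) := hV
  let f : (∐ fun k => (V k : Scheme.{u})) ⟶ X := Sigma.desc fun k => (V k).ι ≫ E.f (iV k)
  haveI : LocallyOfFinitePresentation f :=
    IsZariskiLocalAtSource.sigmaDesc (P := @LocallyOfFinitePresentation) fun k =>
      haveI := hlfp (iV k)
      inferInstanceAs (LocallyOfFinitePresentation ((V k).ι ≫ E.f (iV k)))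
  have hflift : HTop.HasValLift (PreZeroHypercover.singleton.{0} f) := by
    intro R _ _ g
    obtain ⟨W, hW, hW', φ, hφ, k, g', hg'⟩ := hlift R g
    refine ⟨W, hW, hW', φ, hφ, PUnit.unit, g' ≫ Sigma.ι (fun k => (V k : Scheme.{u})) k, ?_⟩
    show (g' ≫ Sigma.ι (fun k => (V k : Scheme.{u})) k) ≫ f = _
    rw [Category.assoc, Sigma.ι_desc]
    exact hg'
  obtain ⟨I, _, _, D, π, ⟨hc⟩, hDa, hDn⟩ := exists_noetherian_system X
  haveI := hDa
  haveI : IsAffine (Cone.mk X π).pt := ‹IsAffine X›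
  obtain ⟨i₁, X₁, f₁, m, hX₁, hf₁, hsq⟩ := exists_affine_model D (Cone.mk X π) hc f
  haveI := hX₁
  haveI := hf₁
  obtain ⟨i, φ, hi⟩ := exists_stage_hasValLift D (Cone.mk X π) hc i₁ f₁ m f hsq.w hflift
  let fi : pullback f₁ (D.map φ) ⟶ D.obj i := pullback.snd f₁ (D.map φ)
  haveI : IsAffine (pullback f₁ (D.map φ)) := inferInstance
  have hsqi : IsPullback (pullback.lift m (f ≫ π.app i) (by
      rw [Category.assoc]
      exact hsq.w.trans (congrArg (f ≫ ·) ((Cone.mk X π).w φ).symm))) f fi (π.app i) :=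
    IsPullback.of_right (by rw [pullback.lift_fst]; exact ((Cone.mk X π).w φ).symm ▸ hsq)
      (pullback.lift_snd _ _ _) (IsPullback.of_hasPullback _ _)
  have hnat : Spec.map (CommRingCat.ofHom fi.appTop.hom) = (pullback f₁ (D.map φ)).isoSpec.inv ≫ fi ≫
      (D.obj i).isoSpec.hom := by
    rw [CommRingCat.ofHom_hom, ← Scheme.isoSpec_hom_naturality, Iso.inv_hom_id_assoc]
  have hi' : HTop.HasValLift (PreZeroHypercover.singleton.{0} (Spec.map (CommRingCat.ofHom fi.appTop.hom))) := by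
    intro R _ _ g
    obtain ⟨W, hW, hW', χ, hχ, _j, g', hg'⟩ := hi R (g ≫ (D.obj i).isoSpec.inv)
    let g₁ : Spec W ⟶ pullback f₁ (D.map φ) := g'
    have hg₁ : g₁ ≫ fi = Spec.map χ ≫ g ≫ (D.obj i).isoSpec.inv := hg'
    refine ⟨W, hW, hW', χ, hχ, PUnit.unit, g₁ ≫ (pullback f₁ (D.map φ)).isoSpec.hom, ?_⟩
    show (g₁ ≫ (pullback f₁ (D.map φ)).isoSpec.hom) ≫ Spec.map (CommRingCat.ofHom fi.appTop.hom) = _
    rw [hnat, Category.assoc, Iso.hom_inv_id_assoc, reassoc_of% hg₁, Iso.inv_hom_id, Category.comp_id]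
  haveI := hDn i
  obtain ⟨P, ρ, hρ, hρs, hρf, hl⟩ := exists_proper_surjective_noetherian fi.appTop.hom
    (RingHom.FiniteType.of_finitePresentation fi.finitePresentation_appTop) hi'
  let ρ' : P ⟶ D.obj i := ρ ≫ (D.obj i).isoSpec.inv
  haveI : IsLocallyNoetherian (D.obj i) := isLocallyNoetherian_of_isOpenImmersion (D.obj i).isoSpec.hom
  refine ⟨D.obj i, P, π.app i, ρ', inferInstance, inferInstance, inferInstance, inferInstance, fun y => ?_⟩
  obtain ⟨U, hyU, hU, h, hh⟩ := hl (pullback.fst ρ' (π.app i) y)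
  haveI : IsAffineHom (π.app i) := by
    haveI : IsAffine (((Functor.const I).obj X).obj i) := ‹IsAffine X›
    infer_instance
  haveI : IsAffineHom (pullback.fst ρ' (π.app i)) := MorphismProperty.pullback_fst _ _ inferInstance
  let U' : (pullback ρ' (π.app i)).Opens := pullback.fst ρ' (π.app i) ⁻¹ᵁ U
  let a : (U' : Scheme.{u}) ⟶ ∐ fun k => (V k : Scheme.{u}) := hsqi.lift
    (((pullback.fst ρ' (π.app i)) ∣_ U) ≫ h ≫ (pullback f₁ (D.map φ)).isoSpec.inv)
    (U'.ι ≫ pullback.snd ρ' (π.app i)) (by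
      have e : h ≫ (pullback f₁ (D.map φ)).isoSpec.inv ≫ fi = U.ι ≫ ρ' := by
        rw [hnat] at hh
        show _ = U.ι ≫ ρ ≫ (D.obj i).isoSpec.inv
        rw [← reassoc_of% hh, Iso.hom_inv_id, Category.comp_id]
      rw [Category.assoc, Category.assoc, e, morphismRestrict_ι_assoc, pullback.condition]
      exact (Category.assoc _ _ _).symm)
  have ha : a ≫ f = U'.ι ≫ pullback.snd ρ' (π.app i) := hsqi.lift_snd _ _ _
  obtain ⟨k, z, hz⟩ := (sigmaOpenCover fun k => (V k : Scheme.{u})).exists_eq (a ⟨y, hyU⟩)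
  obtain ⟨O, hO, hyO, hOle⟩ := exists_isAffineOpen_mem_and_subset (x := (⟨y, hyU⟩ : (U' : Scheme.{u})))
    (U := a ⁻¹ᵁ (Sigma.ι (fun k => (V k : Scheme.{u})) k).opensRange)
    (show a ⟨y, hyU⟩ ∈ (Sigma.ι (fun k => (V k : Scheme.{u})) k).opensRange from ⟨z, hz⟩)
  refine ⟨U'.ι ''ᵁ O, ⟨⟨y, hyU⟩, hyO, rfl⟩, hO.image_of_isOpenImmersion _, iV k, ?_⟩
  have hr : Set.range (O.ι ≫ a) ⊆ Set.range (Sigma.ι (fun k => (V k : Scheme.{u})) k) := by
    rintro _ ⟨x, rfl⟩
    exact hOle x.2
  refine ⟨(U'.ι.isoImage O).inv ≫ IsOpenImmersion.lift _ _ hr ≫ (V k).ι, ?_⟩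
  have e : IsOpenImmersion.lift (Sigma.ι (fun k => (V k : Scheme.{u})) k) (O.ι ≫ a) hr ≫ (V k).ι ≫ E.f (iV k) =
      O.ι ≫ U'.ι ≫ pullback.snd ρ' (π.app i) := by
    rw [← ha, ← Category.assoc O.ι]
    conv_rhs => rw [← IsOpenImmersion.lift_fac (Sigma.ι (fun k => (V k : Scheme.{u})) k) (O.ι ≫ a) hr,
      Category.assoc, Sigma.ι_desc]
  rw [Category.assoc, Category.assoc, e, ← Category.assoc O.ι, ← Scheme.Hom.isoImage_hom_ι, Category.assoc,
    Iso.inv_hom_id_assoc]

variable {S : Scheme.{u}} {F : (Over S)ᵒᵖ ⥤ Type w}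
  (hz : Presieve.IsSheaf (Scheme.zariskiTopology.over S) F)
  (hfl : ∀ (X Y : Over S) (f : X ⟶ Y), IsAffine Y.left → Surjective f.left → Flat f.left → IsProper f.left →
    LocallyOfFinitePresentation f.left → Presieve.IsSheafFor F (Presieve.singleton f))
  (hsq : ∀ (E Z X' X : Over S) (e : E ⟶ X') (π : E ⟶ Z) (b : X' ⟶ X) (i : Z ⟶ X), IsAffine X.left →
    HTop.IsAlmostBlowUpSquare e.left π.left b.left i.left →
    (∃ f₁ f₂ : Γ(X.left, ⊤), i.left.ker = Scheme.IdealSheafData.ofIdealTop (Ideal.span {f₁, f₂})) →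
    ∀ (t : F.obj (op Z)) (s' : F.obj (op X')), F.map π.op t = F.map e.op s' →
      ∃! s : F.obj (op X), F.map i.op s = t ∧ F.map b.op s = s')

include hz hfl hsq

/-- Proper surjections of finite presentation onto affine schemes are fine. -/
theorem fine_proper {U V : Scheme.{u}} [IsAffine U] (f : V ⟶ U) [IsProper f] [Surjective f]
    [LocallyOfFinitePresentation f] : Fine F (Sieve.generate (Presieve.singleton f)) := by
  obtain ⟨U₀, P, σ, ρ, _, _, _, _, hloc⟩ := exists_proper_refining_model (PreZeroHypercover.singleton.{0} f)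
    (fun _ => inferInstanceAs (LocallyOfFinitePresentation f)) (HTopLib.isHCover_of_proper f).2
  refine ((fine_proper_noetherian hz hfl hsq ρ).pullback σ).trans fun W a ⟨P', l, c, hc, hlc⟩ => ?_
  obtain ⟨⟩ := hc
  have ha : a = pullback.lift l a hlc ≫ pullback.snd ρ σ := (pullback.lift_snd _ _ _).symm
  rw [ha, Sieve.pullback_comp]
  refine Fine.pullback ?_ _
  choose O hyO _ i h hh using hloc
  refine fine_openCover hz (Scheme.openCoverOfIsOpenCover _ O (IsOpenCover.mk (eq_top_iff.2 fun y _ =>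
    Opens.mem_iSup.2 ⟨y, hyO y⟩))) _ fun y => ?_
  exact ⟨V, h y, f, ⟨⟩, hh y⟩

/-- Descent along proper surjections of finite presentation onto affine schemes over `S`. -/
theorem isSheafFor_proper_affine {U V : Over S} (f : V ⟶ U) [IsAffine U.left] [IsProper f.left]
    [Surjective f.left] [LocallyOfFinitePresentation f.left] :
    Presieve.IsSheafFor F (Presieve.singleton f) := by
  have he : pullSieve (𝟙 U.left) (Sieve.generate (Presieve.singleton f.left)) =
      Sieve.generate (Presieve.singleton f) := by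
    refine le_antisymm ?_ ?_
    · rintro Z k ⟨V', l, c, ⟨⟩, hl⟩
      rw [Category.comp_id] at hl
      refine ⟨V, Over.homMk l ?_, f, ⟨⟩, Over.OverMorphism.ext hl⟩
      rw [← Over.w f, ← Category.assoc, hl]
      exact Over.w k
    · rw [Sieve.generate_le_iff]
      rintro Z k ⟨⟩
      exact ⟨V.left, 𝟙 _, f.left, ⟨⟩, (Category.id_comp _).trans (Category.comp_id _).symm⟩
  have h := fine_proper hz hfl hsq f.left U (𝟙 _)
  rw [he] at h
  exact (Presieve.isSheafFor_iff_generate _).2 (Sheaf.sheaf_for_finestTopology {F} (Set.mem_singleton F) _ h)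

/-- The criterion. -/
theorem isSheaf_Jh_of : Presieve.IsSheaf (HTop.Jh S) F :=
  HTopUltra.HSheaf.isSheaf_Jh hz fun U V f hU hf hs hp =>
    haveI := hU; haveI := hf; haveI := hs; haveI := hp
    isSheafFor_proper_affine hz hfl hsq f

omit hz hfl hsq in
/-- h sheaves turn almost blow up squares into cartesian squares. -/
theorem existsUnique_of_isSheaf (hF : Presieve.IsSheaf (HTop.Jh S) F) {E Z X' X : Over S} (e : E ⟶ X')
    (π : E ⟶ Z) (b : X' ⟶ X) (i : Z ⟶ X) (h : HTop.IsAlmostBlowUpSquare e.left π.left b.left i.left)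
    (t : F.obj (op Z)) (s' : F.obj (op X')) (hts : F.map π.op t = F.map e.op s') :
    ∃! s : F.obj (op X), F.map i.op s = t ∧ F.map b.op s = s' := by
  haveI := h.isClosedImmersion
  haveI := h.isProper
  haveI := h.finitePresentation
  haveI := h.finitePresentation_base
  refine HTopLib.existsUnique_of_square HTop.hPrecoverage @LocallyOfFinitePresentation F hF ?_ e π b i ‹_› ‹_›
    (LimLib.locallyOfFinitePresentation_diagonal b.left) h.isPullback
    (fun U hU => HTopLib.isIso_restrict_of_isBlowUp_supportedOn b.left i.left.ker h.isBlowUp U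
      (by rw [hU, HTopLib.support_ker_eq_range])) t s' hts
  intro X A B a b _ _ _ _ hcov
  exact (HTop.presieve₀_mem_hPrecoverage_iff _).2 (HTopLib.isHCover_pair a b hcov)

end Groth.Agent.HTopFlat
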