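import Groth.Agent.RG.StrictSub
import Groth.Agent.RG.StrictLP

/-!
# The ideal of sections supported on a locally principal ideal, on every affine open
-/

set_option autoImplicit false
set_option linter.style.haveILetI false

universe u

open CategoryTheory CategoryTheory.Limits AlgebraicGeometry TopologicalSpace Opposite

namespace Groth.Agent.HTopFlat

/-- Sections supported on a locally principal ideal are those killed by a power of it, on every affine open. -/
theorem mem_supportedOn_iff_killed {X : Scheme.{u}} {J : X.IdealSheafData} (hJ : HTop.IsLocPrincipal J)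
    (W : X.affineOpens) (a : Γ(X, W.1)) :
    a ∈ (HTop.supportedOn J).ideal W ↔ BlowUp.KilledByPowerNear J (Coh.structureModule X) W a := by
  classical
  haveI := HTopSq.quasiCompact_awayFrom_ι hJ
  let O : X.Opens := (HTop.awayFrom J).ι ''ᵁ ((HTop.awayFrom J).ι ⁻¹ᵁ W.1)
  have hO : O = HTop.awayFrom J ⊓ W.1 := by
    show (HTop.awayFrom J).ι ''ᵁ ((HTop.awayFrom J).ι ⁻¹ᵁ W.1) = _
    rw [Scheme.Hom.image_preimage_eq_opensRange_inf, Scheme.Opens.opensRange_ι]
  have hOW : O ≤ W.1 := hO.le.trans inf_le_right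
  have hmem : a ∈ (HTop.supportedOn J).ideal W ↔ X.presheaf.map (homOfLE hOW).op a = 0 := by
    rw [HTop.supportedOn, Scheme.Hom.ker_apply, RingHom.mem_ker, Scheme.Opens.ι_app]
    rfl
  have hDO : ∀ b ∈ J.ideal W, X.basicOpen b ≤ O := fun b hb x hx => by
    rw [hO]
    refine ⟨fun hxs => ?_, X.basicOpen_le b hx⟩
    have h1 : x ∈ (J.support : Set X) ∩ (W.1 : Set X) := ⟨hxs, X.basicOpen_le b hx⟩
    rw [J.coe_support_inter W] at h1
    exact (Scheme.mem_zeroLocus_iff _ _ _).1 h1.1 b hb hx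
  have hres : ∀ b ∈ J.ideal W, (X.presheaf.map (homOfLE (X.basicOpen_le b)).op a = 0 ↔ ∃ n, b ^ n * a = 0) := by
    intro b _
    haveI := W.2.isLocalization_basicOpen b
    show algebraMap Γ(X, W.1) Γ(X, X.basicOpen b) a = 0 ↔ _
    rw [IsLocalization.map_eq_zero_iff (Submonoid.powers b)]
    exact ⟨fun ⟨⟨_, n, rfl⟩, hn⟩ => ⟨n, hn⟩, fun ⟨n, hn⟩ => ⟨⟨_, n, rfl⟩, hn⟩⟩
  rw [hmem]
  constructor
  · intro h
    have key : ∀ b ∈ J.ideal W, ∃ n, b ^ n * a = 0 := fun b hb => (hres b hb).1 (by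
      have := congrArg (X.presheaf.map (homOfLE (hDO b hb)).op) h
      rw [map_zero, ← ConcreteCategory.comp_apply, ← X.presheaf.map_comp] at this
      exact this)
    obtain ⟨n, hn⟩ := Ideal.exists_pow_le_of_le_radical_of_fg
      (show J.ideal W ≤ (Submodule.annihilator (Ideal.span {a})).radical from fun b hb => by
        obtain ⟨n, hn⟩ := key b hb
        refine ⟨n, Submodule.mem_annihilator.2 fun z hz => ?_⟩
        obtain ⟨c, rfl⟩ := Ideal.mem_span_singleton'.1 hz
        rw [smul_eq_mul, mul_left_comm, hn, mul_zero])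
      (RG.StrictLP.fg_ideal hJ W)
    refine ⟨n, fun z hz => ?_⟩
    rw [Scheme.IdealSheafData.ideal_pow, Pi.pow_apply] at hz
    exact Submodule.mem_annihilator.1 (hn hz) a (Ideal.mem_span_singleton_self a)
  · rintro ⟨n, hn⟩
    refine TopCat.Sheaf.eq_of_locally_eq' X.sheaf (fun b : J.ideal W => X.basicOpen (b : Γ(X, W.1))) O
      (fun b => homOfLE (hDO b.1 b.2)) ?_ _ _ fun b => ?_
    · intro x hx
      rw [hO] at hx
      have h1 : x ∉ X.zeroLocus (U := W.1) (J.ideal W : Set Γ(X, W.1)) := fun h2 => hx.1 (by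
        have : x ∈ (J.support : Set X) ∩ (W.1 : Set X) := by rw [J.coe_support_inter W]; exact ⟨h2, hx.2⟩
        exact this.1)
      simp only [Scheme.mem_zeroLocus_iff, not_forall, not_not] at h1
      obtain ⟨b, hb, hxb⟩ := h1
      exact Opens.mem_iSup.2 ⟨⟨b, hb⟩, hxb⟩
    · show X.presheaf.map (homOfLE (hDO b.1 b.2)).op (X.presheaf.map (homOfLE hOW).op a) =
        X.presheaf.map (homOfLE (hDO b.1 b.2)).op 0
      rw [map_zero, ← ConcreteCategory.comp_apply, ← X.presheaf.map_comp]
      exact (hres b.1 b.2).2 ⟨n, hn (b.1 ^ n) (by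
        rw [Scheme.IdealSheafData.ideal_pow, Pi.pow_apply]
        exact Ideal.pow_mem_pow b.2 n)⟩

end Groth.Agent.HTopFlat
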