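import Groth.Agent.HTopFlat.Principal
import Groth.Agent.HTopFlat.Strict
import Groth.Agent.RG.FTStrict
import Groth.Agent.FlatMisc.GenericFlat
import Groth.Agent.ModPairLib.Dense

/-!
# Proper surjections onto Noetherian affine schemes

They are refined by compositions of blow-up squares, Zariski coverings and surjective flat proper morphisms.
-/

set_option autoImplicit false
set_option linter.style.haveILetI false
set_option maxHeartbeats 800000

universe w u

open CategoryTheory CategoryTheory.Limits AlgebraicGeometry TopologicalSpace Opposite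
open Groth.Agent.IdealSh

namespace Groth.Agent.HTopFlat

theorem surjective_appTop {X Y : Scheme.{u}} (j : X ⟶ Y) [IsAffine Y] [IsClosedImmersion j] :
    Function.Surjective j.appTop :=
  (IsClosedImmersion.isAffine_surjective_of_isAffine j).2

/-- A nonzero ideal gives a strictly larger kernel. -/
theorem ker_lt {X U : Scheme.{u}} [IsAffine U] (j : X ⟶ U) [IsClosedImmersion j] [IsAffine X]
    (G : X.IdealSheafData) (hG : G ≠ ⊥) :
    RingHom.ker j.appTop.hom < RingHom.ker (G.subschemeι ≫ j).appTop.hom := by
  have hker : G.ideal ⟨⊤, isAffineOpen_top X⟩ = RingHom.ker G.subschemeι.appTop.hom := by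
    have : G.subschemeι.ker.ideal ⟨⊤, isAffineOpen_top X⟩ = RingHom.ker G.subschemeι.appTop.hom :=
      Scheme.Hom.ker_apply _ _
    rwa [Scheme.IdealSheafData.ker_subschemeι] at this
  refine lt_of_le_not_ge (fun x hx => ?_) fun hle => hG ?_
  · show (G.subschemeι ≫ j).appTop x = 0
    rw [Scheme.Hom.comp_appTop, CommRingCat.comp_apply, RingHom.mem_ker.1 hx, map_zero]
  · refine Scheme.IdealSheafData.ext_of_isAffine ?_
    rw [Scheme.IdealSheafData.ideal_bot, Pi.bot_apply, eq_bot_iff]
    intro y hy
    obtain ⟨x, rfl⟩ := surjective_appTop j y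
    rw [hker] at hy
    have : x ∈ RingHom.ker j.appTop.hom := hle (by
      show (G.subschemeι ≫ j).appTop x = 0
      rw [Scheme.Hom.comp_appTop, CommRingCat.comp_apply]
      exact hy)
    exact this

variable {S : Scheme.{u}} {F : (Over S)ᵒᵖ ⥤ Type w}
  (hz : Presieve.IsSheaf (Scheme.zariskiTopology.over S) F)
  (hfl : ∀ (X Y : Over S) (f : X ⟶ Y), IsAffine Y.left → Surjective f.left → Flat f.left → IsProper f.left →
    LocallyOfFinitePresentation f.left → Presieve.IsSheafFor F (Presieve.singleton f))
  (hsq : ∀ (E Z X' X : Over S) (e : E ⟶ X') (π : E ⟶ Z) (b : X' ⟶ X) (i : Z ⟶ X), IsAffine X.left →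
    HTop.IsAlmostBlowUpSquare e.left π.left b.left i.left →
    (∃ f₁ f₂ : Γ(X.left, ⊤), i.left.ker = Scheme.IdealSheafData.ofIdealTop (Ideal.span {f₁, f₂})) →
    ∀ (t : F.obj (op Z)) (s' : F.obj (op X')), F.map π.op t = F.map e.op s' →
      ∃! s : F.obj (op X), F.map i.op s = t ∧ F.map b.op s = s')

include hz hfl hsq

/-- Proper surjections onto Noetherian affine schemes are fine. -/
theorem fine_proper_noetherian {U P : Scheme.{u}} [IsAffine U] [IsLocallyNoetherian U] (π : P ⟶ U)
    [IsProper π] [Surjective π] : Fine F (Sieve.generate (Presieve.singleton π)) := by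
  classical
  haveI := isNoetherianRing_top U
  suffices H : ∀ (I : Ideal Γ(U, ⊤)) (X : Scheme.{u}) (j : X ⟶ U), IsClosedImmersion j →
      RingHom.ker j.appTop.hom = I → Fine F ((Sieve.generate (Presieve.singleton π)).pullback j) by
    have := H _ U (𝟙 U) inferInstance rfl
    rwa [Sieve.pullback_id] at this
  intro I
  induction I using IsNoetherian.induction with
  | hgt I ih =>
    intro X j hj hI
    subst hI
    haveI : IsAffine X := isAffine_of_isAffineHom j
    haveI : IsLocallyNoetherian X := LocallyOfFiniteType.isLocallyNoetherian j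
    haveI := isNoetherianRing_top X
    let R := (Sieve.generate (Presieve.singleton π)).pullback j
    have step : ∀ G : X.IdealSheafData, G ≠ ⊥ → Fine F (R.pullback G.subschemeι) := fun G hG => by
      have := ih _ (ker_lt j G hG) G.subscheme (G.subschemeι ≫ j) inferInstance rfl
      rwa [Sieve.pullback_comp] at this
    by_cases hsplit : ∃ a b : Γ(X, ⊤), a * b = 0 ∧ a ≠ 0 ∧ b ≠ 0
    · obtain ⟨a, b, hab, ha, hb⟩ := hsplit
      let Ga := Scheme.IdealSheafData.ofIdealTop (Ideal.span {a})
      let Gb := Scheme.IdealSheafData.ofIdealTop (Ideal.span {b})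
      have hne : ∀ c : Γ(X, ⊤), c ≠ 0 → Scheme.IdealSheafData.ofIdealTop (Ideal.span {c}) ≠ ⊥ := fun c hc h => by
        have := congrArg (fun G : X.IdealSheafData => G.ideal ⟨⊤, isAffineOpen_top X⟩) h
        simp only [Scheme.IdealSheafData.ideal_bot, Pi.bot_apply] at this
        exact hc (Ideal.span_singleton_eq_bot.1 (by simpa using this))
      obtain ⟨B, β, hβ⟩ := Groth.Agent.BlowUp.Glue.exists_isBlowUp X Ga
      haveI : IsProper β := BlowUpProper.Basic.isProper hβ (isFiniteTypeIdeal X Ga)
      let P' : Presieve X := Presieve.singleton Ga.subschemeι ⊔ Presieve.singleton β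
      have hP : Fine F (Sieve.generate P') :=
        fine_blowUp hz hsq hβ _ (Sieve.le_generate _ _ _ (Or.inl ⟨⟩)) (Sieve.le_generate _ _ _ (Or.inr ⟨⟩))
      refine hP.trans_generate fun W c hc => ?_
      rcases hc with ⟨⟨⟩⟩ | ⟨⟨⟩⟩
      · exact step Ga (hne a ha)
      · -- the blow-up of `(a)` lies in the vanishing locus of `b`
        have hle : Gb.subschemeι.ker ≤ β.ker := by
          rw [Scheme.IdealSheafData.ker_subschemeι]
          refine Scheme.IdealSheafData.le_of_isAffine ?_
          rw [Scheme.IdealSheafData.ofIdealTop_ideal, Scheme.Hom.ker_apply]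
          simp only [homOfLE_leOfHom]
          refine Ideal.map_le_iff_le_comap.2 ((Ideal.span_singleton_le_iff_mem _).2 ?_)
          show β.app ⊤ (X.presheaf.map _ b) = 0
          have hid : ∀ (h : (⊤ : X.Opens) ⟶ ⊤), X.presheaf.map h.op b = b := fun h => by
            rw [Subsingleton.elim h (𝟙 _), op_id, X.presheaf.map_id]; rfl
          rw [hid]
          refine TopCat.Sheaf.eq_of_locally_eq' B.sheaf (fun x : B => (hβ.1 x).choose.1) _
            (fun _ => homOfLE le_top) (fun x _ => Opens.mem_iSup.2 ⟨x, (hβ.1 x).choose_spec.1⟩) _ _ fun x => ?_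
          obtain ⟨hx, f, hf0, hf⟩ := (hβ.1 x).choose_spec
          let V := (hβ.1 x).choose
          let ρ : Γ(X, ⊤) →+* Γ(B, V.1) := (β.appLE ⊤ V.1 le_top).hom
          have hfa : f ∈ Ideal.span {ρ a} := by
            have := (Ideal.mem_span_singleton_self f)
            rw [← hf, Comap.ofIdealTop_comap, Ideal.map_span, Set.image_singleton] at this
            exact this
          obtain ⟨c, hc⟩ := Ideal.mem_span_singleton'.1 hfa
          have h0 : ρ b * f = 0 := by
            rw [← hc, mul_left_comm, ← map_mul, mul_comm b a, hab, map_zero, mul_zero]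
          show (β.appTop ≫ B.presheaf.map (homOfLE le_top).op).hom b = B.presheaf.map _ 0
          rw [map_zero]
          exact (mem_nonZeroDivisors_iff_right.1 hf0) (ρ b) h0
        rw [← IsClosedImmersion.lift_fac Gb.subschemeι β hle, Sieve.pullback_comp]
        exact (step Gb (hne b hb)).pullback _
    · -- the integral case
      push Not at hsplit
      rcases isEmpty_or_nonempty X with hX | hX
      · exact fine_openCover hz X.affineCover R fun k => hX.elim k
      haveI : NoZeroDivisors Γ(X, ⊤) := ⟨fun {a b} h => by
        by_cases ha : a = 0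
        · exact Or.inl ha
        · exact Or.inr (hsplit a b h ha)⟩
      haveI : _root_.IsReduced Γ(X, ⊤) := inferInstance
      haveI : IsReduced X := isReduced_of_isAffine_isReduced X
      let f := pullback.snd π j
      haveI : IsProper f := MorphismProperty.pullback_snd _ _ ‹_›
      haveI : Surjective f := MorphismProperty.pullback_snd _ _ ‹_›
      obtain ⟨W', -, hW'ne, hW'fl, hW'fp⟩ := FlatMisc.GenericFlat.exists_open f ⊤ ⟨hX.some, trivial⟩
      haveI : NoetherianSpace X := noetherianSpace_of_isAffine
      haveI := hW'fl
      haveI := hW'fp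
      obtain ⟨𝓘, B, b, hb, hadm, hsupp, hstrict⟩ :=
        RG.FTStrict.exists_strict f W' (NoetherianSpace.isCompact _)
      have h𝓘 : 𝓘 ≠ ⊥ := by
        rintro rfl
        obtain ⟨x, hx⟩ := hW'ne
        have : x ∈ ((⊥ : X.IdealSheafData).support : Set X) := by
          rw [Scheme.IdealSheafData.support_bot]; trivial
        rw [hsupp] at this
        exact this hx
      haveI : IsProper b := BlowUpProper.Basic.isProper hb (isFiniteTypeIdeal X 𝓘)
      haveI : IsLocallyNoetherian B := LocallyOfFiniteType.isLocallyNoetherian b
      let P' : Presieve X := Presieve.singleton 𝓘.subschemeι ⊔ Presieve.singleton b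
      have hP : Fine F (Sieve.generate P') :=
        fine_blowUp hz hsq hb _ (Sieve.le_generate _ _ _ (Or.inl ⟨⟩)) (Sieve.le_generate _ _ _ (Or.inr ⟨⟩))
      refine hP.trans_generate fun W c hc => ?_
      rcases hc with ⟨⟨⟩⟩ | ⟨⟨⟩⟩
      · exact step 𝓘 h𝓘
      · let p₁ := pullback.fst f b
        let p₂ := pullback.snd f b
        have hpb : IsPullback p₁ p₂ f b := IsPullback.of_hasPullback _ _
        let J := (𝓘.comap f).comap p₁
        have hJ : HTop.IsLocPrincipal J := RG.StrictSub.isLocPrincipal_exceptional hb hpb.w
        let K := HTop.supportedOn J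
        obtain ⟨hKflat, hKfp, -, -⟩ := hstrict _ p₁ p₂ hpb K (fun V a => mem_supportedOn_iff_killed hJ V a)
        let q := K.subschemeι ≫ p₂
        haveI : IsProper p₂ := MorphismProperty.pullback_snd _ _ ‹_›
        haveI : Surjective p₂ := MorphismProperty.pullback_snd _ _ ‹_›
        haveI : IsProper q := inferInstance
        haveI : Flat q := hKflat
        haveI : LocallyOfFinitePresentation q := hKfp
        haveI : Surjective q := by
          refine ⟨fun y => ?_⟩
          have hclosed : IsClosed (Set.range q) := q.isClosedMap.isClosed_range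
          let O := ModPair.interior (𝓘.comap b)
          have hsub : (O : Set B) ⊆ Set.range q := fun z hz => by
            obtain ⟨x, rfl⟩ := p₂.surjective z
            have hxJ : x ∈ HTop.awayFrom J := fun hx => hz (by
              rw [show J = (𝓘.comap b).comap p₂ by
                show (𝓘.comap f).comap p₁ = _
                rw [← Scheme.IdealSheafData.comap_comp, hpb.w, Scheme.IdealSheafData.comap_comp],
                Scheme.IdealSheafData.support_comap] at hx
              exact hx)
            have : x ∈ (K.support : Set _) :=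
              (HTop.awayFrom J).ι.range_subset_ker_support (by rw [Scheme.Opens.range_ι]; exact hxJ)
            rw [← Scheme.IdealSheafData.range_subschemeι] at this
            obtain ⟨t, ht⟩ := this
            exact ⟨t, by show (K.subschemeι ≫ p₂) t = _; rw [Scheme.Hom.comp_apply, ht]⟩
          haveI := ModPairLib.Dense.isSchemeTheoreticallyDominant_interior hb.1
          haveI := ModPairLib.Dense.isAffineHom_interior hb.1
          haveI : IsDominant O.ι := inferInstance
          have hd : closure (O : Set B) = Set.univ := by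
            rw [← Scheme.Opens.range_ι O]; exact O.ι.denseRange.closure_eq
          exact (hclosed.closure_subset_iff.2 hsub) (hd.ge trivial)
        refine (fine_flat hz hfl q).superset ?_
        rw [Sieve.generate_le_iff]
        rintro _ _ ⟨⟩
        show (Sieve.generate (Presieve.singleton π)) ((q ≫ b) ≫ j)
        refine ⟨P, K.subschemeι ≫ p₁ ≫ pullback.fst π j, π, ⟨⟩, ?_⟩
        simp only [q, f, p₁, p₂, Category.assoc, pullback.condition]
        rw [pullback.condition_assoc]

end Groth.Agent.HTopFlat
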