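import Groth.Agent.HTopFlat.Fine
import Groth.Agent.HTopSq.Exists
import Groth.Agent.RG.StrictSub

/-!
# From two generators to blow-ups in arbitrary ideals

If the squares of centres cut out by two functions are fine, then over a Noetherian affine scheme every blow-up
together with its centre is fine.
-/

set_option autoImplicit false
set_option linter.style.haveILetI false

universe w u

open CategoryTheory CategoryTheory.Limits AlgebraicGeometry TopologicalSpace Opposite
open Groth.Agent.IdealSh

namespace Groth.Agent.HTopFlat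

theorem isNoetherianRing_top (X : Scheme.{u}) [IsAffine X] [IsLocallyNoetherian X] : IsNoetherianRing Γ(X, ⊤) :=
  IsLocallyNoetherian.component_noetherian ⟨⊤, isAffineOpen_top X⟩

theorem isFiniteTypeIdeal (X : Scheme.{u}) [IsLocallyNoetherian X] (G : X.IdealSheafData) :
    BlowUp.IsFiniteTypeIdeal G := fun U => by
  haveI := IsLocallyNoetherian.component_noetherian (X := X) U
  exact IsNoetherian.noetherian _

/-- A blow-up of a locally Noetherian scheme gives an almost blow up square. -/
theorem square_of_isBlowUp {X B : Scheme.{u}} [IsLocallyNoetherian X] {G : X.IdealSheafData} {b : B ⟶ X}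
    (hb : BlowUp.IsBlowUp b G) :
    HTop.IsAlmostBlowUpSquare (pullback.fst b G.subschemeι) (pullback.snd b G.subschemeι) b G.subschemeι := by
  haveI : IsProper b := BlowUpProper.Basic.isProper hb (isFiniteTypeIdeal X G)
  haveI : LocallyOfFinitePresentation b := inferInstance
  haveI : LocallyOfFinitePresentation G.subschemeι := inferInstance
  refine ⟨inferInstance, ‹_›, .of_hasPullback _ _, ?_, ‹_›, ‹_›, ?_⟩
  · rw [Scheme.IdealSheafData.ker_subschemeι]
    exact RG.StrictSub.isLocPrincipal_of_effCartier hb.1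
  · rw [Scheme.IdealSheafData.ker_subschemeι, HTopSq.supportedOn_eq_bot hb.1]
    haveI : IsIso (⊥ : B.IdealSheafData).subschemeι :=
      IsClosedImmersion.isIso_iff_ker_eq_bot.2 (Scheme.IdealSheafData.ker_subschemeι _)
    exact Groth.Agent.BlowUp.Basic.isBlowUp_iso_comp hb (asIso (⊥ : B.IdealSheafData).subschemeι)

/-- Inverse images of ideals generated by functions. -/
theorem comap_ofIdealTop {X Y : Scheme.{u}} [IsAffine X] [IsAffine Y] (I : Ideal Γ(X, ⊤)) (f : Y ⟶ X) :
    (Scheme.IdealSheafData.ofIdealTop I).comap f = Scheme.IdealSheafData.ofIdealTop (I.map f.appTop.hom) := by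
  refine Scheme.IdealSheafData.ext_of_isAffine ?_
  rw [Comap.ofIdealTop_comap]
  simp [Scheme.Hom.appLE]

/-- Some affine neighbourhoods on which an inverse image ideal is principal. -/
theorem exists_principal_chart {X B : Scheme.{u}} [IsAffine X] {I : Ideal Γ(X, ⊤)} {b : B ⟶ X}
    (hb : BlowUp.IsEffCartierIdeal ((Scheme.IdealSheafData.ofIdealTop I).comap b)) (x : B) :
    ∃ (U : B.Opens), x ∈ U ∧ IsAffineOpen U ∧ ∃ h : Γ(U.toScheme, ⊤),
      I.map (U.ι ≫ b).appTop.hom = Ideal.span {h} := by
  obtain ⟨U, hx, f, -, hf⟩ := hb x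
  refine ⟨U.1, hx, U.2, U.1.topIso.inv f, ?_⟩
  rw [Comap.ofIdealTop_comap] at hf
  have : (U.1.ι ≫ b).appTop = b.appLE ⊤ U.1 le_top ≫ U.1.topIso.inv := by
    rw [Scheme.Hom.comp_appTop, Scheme.Opens.ι_appTop, Scheme.Opens.topIso_inv, Scheme.Hom.appLE,
      Category.assoc]
    refine congrArg (b.app ⊤ ≫ ·) ?_
    exact (congrArg B.presheaf.map (Subsingleton.elim _ _)).trans (B.presheaf.map_comp _ _)
  rw [this, CommRingCat.hom_comp, ← Ideal.map_map, hf, Ideal.map_span, Set.image_singleton]

variable {S : Scheme.{u}} {F : (Over S)ᵒᵖ ⥤ Type w}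
  (hz : Presieve.IsSheaf (Scheme.zariskiTopology.over S) F)
  (hsq : ∀ (E Z X' X : Over S) (e : E ⟶ X') (π : E ⟶ Z) (b : X' ⟶ X) (i : Z ⟶ X), IsAffine X.left →
    HTop.IsAlmostBlowUpSquare e.left π.left b.left i.left →
    (∃ f₁ f₂ : Γ(X.left, ⊤), i.left.ker = Scheme.IdealSheafData.ofIdealTop (Ideal.span {f₁, f₂})) →
    ∀ (t : F.obj (op Z)) (s' : F.obj (op X')), F.map π.op t = F.map e.op s' →
      ∃! s : F.obj (op X), F.map i.op s = t ∧ F.map b.op s = s')

include hz hsq

/-- A sieve which is fine wherever a given finitely generated ideal becomes principal is fine. -/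
theorem fine_of_principal : ∀ (n : ℕ) {X : Scheme.{u}} [IsAffine X] [IsLocallyNoetherian X]
    (l : List Γ(X, ⊤)), l.length ≤ n → ∀ R : Sieve X,
    (∀ (W : Scheme.{u}) (a : W ⟶ X), IsAffine W → IsLocallyNoetherian W →
      (∃ h : Γ(W, ⊤), (Ideal.span {x | x ∈ l}).map a.appTop.hom = Ideal.span {h}) → Fine F (R.pullback a)) →
    Fine F R := by
  intro n
  induction n with
  | zero =>
    intro X _ _ l hl R hR
    obtain rfl : l = [] := List.eq_nil_of_length_eq_zero (Nat.le_zero.1 hl)
    have := hR X (𝟙 X) ‹_› ‹_› ⟨0, by simp [Ideal.span_empty]⟩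
    rwa [Sieve.pullback_id] at this
  | succ n ih =>
    intro X _ _ l hl R hR
    match l, hl with
    | [], _ => exact ih [] (Nat.zero_le _) R hR
    | [f], _ =>
      have := hR X (𝟙 X) ‹_› ‹_› ⟨f, by
        rw [show {x | x ∈ [f]} = ({f} : Set Γ(X, ⊤)) by ext; simp, Scheme.Hom.id_appTop,
          CommRingCat.hom_id, Ideal.map_id]⟩
      rwa [Sieve.pullback_id] at this
    | f :: g :: t, hl =>
      let G := Scheme.IdealSheafData.ofIdealTop (Ideal.span {f, g})
      obtain ⟨B, b, hb⟩ := Groth.Agent.BlowUp.Glue.exists_isBlowUp X G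
      haveI : IsProper b := BlowUpProper.Basic.isProper hb (isFiniteTypeIdeal X G)
      haveI : IsAffine G.subscheme := isAffine_of_isAffineHom G.subschemeι
      haveI : IsLocallyNoetherian G.subscheme := LocallyOfFiniteType.isLocallyNoetherian G.subschemeι
      haveI : IsLocallyNoetherian B := LocallyOfFiniteType.isLocallyNoetherian b
      let P : Presieve X := Presieve.singleton G.subschemeι ⊔ Presieve.singleton b
      have hP : Fine F (Sieve.generate P) :=
        fine_square hz hsq (square_of_isBlowUp hb) f g (Scheme.IdealSheafData.ker_subschemeι _) _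
          (Sieve.le_generate _ _ _ (Or.inl ⟨⟩)) (Sieve.le_generate _ _ _ (Or.inr ⟨⟩))
      refine hP.trans_generate fun W a ha => ?_
      rcases ha with ⟨⟨⟩⟩ | ⟨⟨⟩⟩
      · -- on the centre two generators vanish
        let φ := G.subschemeι.appTop.hom
        have hv : ∀ x ∈ ({f, g} : Set Γ(X, ⊤)), φ x = 0 := fun x hx => by
          have : x ∈ RingHom.ker φ := by
            have hker : G.subschemeι.ker.ideal ⟨⊤, isAffineOpen_top X⟩ = RingHom.ker φ :=
              Scheme.Hom.ker_apply _ _
            rw [← hker, Scheme.IdealSheafData.ker_subschemeι]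
            simpa [G] using Ideal.subset_span hx
          exact this
        refine ih (t.map φ) (by rw [List.length_map]; simp only [List.length_cons] at hl; omega) _
          fun W a hW hW' ⟨h, hh⟩ => ?_
        rw [← Sieve.pullback_comp]
        refine hR W _ hW hW' ⟨h, ?_⟩
        rw [← hh, Scheme.Hom.comp_appTop, CommRingCat.hom_comp, ← Ideal.map_map]
        congr 1
        rw [Ideal.map_span]
        refine le_antisymm (Ideal.span_le.2 ?_) (Ideal.span_mono ?_)
        · rintro _ ⟨x, hx, rfl⟩
          rcases List.mem_cons.1 hx with rfl | hx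
          · rw [show G.subschemeι.appTop.hom x = 0 from hv x (by simp)]; exact zero_mem _
          rcases List.mem_cons.1 hx with rfl | hx
          · rw [show G.subschemeι.appTop.hom x = 0 from hv x (by simp)]; exact zero_mem _
          exact Ideal.subset_span (List.mem_map.2 ⟨x, hx, rfl⟩)
        · intro y hy
          obtain ⟨x, hx, rfl⟩ := List.mem_map.1 hy
          exact ⟨x, List.mem_cons_of_mem _ (List.mem_cons_of_mem _ hx), rfl⟩
      · -- on the blow-up the two generators become one
        choose O hxO hO h hh using fun x : B => exists_principal_chart hb.1 x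
        refine fine_of_openCover hz (Scheme.openCoverOfIsOpenCover B O (IsOpenCover.mk (eq_top_iff.2 fun y _ =>
          Opens.mem_iSup.2 ⟨y, hxO y⟩))) _ fun x => ?_
        revert x
        show ∀ x : B, Fine F ((R.pullback b).pullback (O x).ι)
        intro x
        haveI : IsAffine (O x).toScheme := hO x
        rw [← Sieve.pullback_comp]
        let φ := ((O x).ι ≫ b).appTop.hom
        refine ih (h x :: t.map φ) (by
          rw [List.length_cons, List.length_map]; simp only [List.length_cons] at hl; omega) _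
          fun W a hW hW' ⟨h', hh'⟩ => ?_
        rw [← Sieve.pullback_comp]
        refine hR W _ hW hW' ⟨h', ?_⟩
        rw [← hh', Scheme.Hom.comp_appTop a, CommRingCat.hom_comp, ← Ideal.map_map]
        congr 1
        have e1 : {y | y ∈ f :: g :: t} = ({f, g} : Set Γ(X, ⊤)) ∪ {y | y ∈ t} := by
          ext y; simp [or_assoc]
        have e2 : {y | y ∈ h x :: t.map φ} = {h x} ∪ φ '' {y | y ∈ t} := by
          ext y; simp
        rw [e1, e2, Ideal.span_union, Ideal.span_union, Ideal.map_sup, hh x, Ideal.map_span _ {y | y ∈ t}]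


/-- A blow-up of a Noetherian affine scheme together with its centre is fine. -/
theorem fine_blowUp {X B : Scheme.{u}} [IsAffine X] [IsLocallyNoetherian X] {G : X.IdealSheafData} {b : B ⟶ X}
    (hb : BlowUp.IsBlowUp b G) (R : Sieve X) (hRZ : R G.subschemeι) (hRb : R b) : Fine F R := by
  classical
  haveI := isNoetherianRing_top X
  obtain ⟨s, hs⟩ := (inferInstance : IsNoetherian Γ(X, ⊤) Γ(X, ⊤)).noetherian (G.ideal ⟨⊤, isAffineOpen_top X⟩)
  have hG : G = Scheme.IdealSheafData.ofIdealTop (Ideal.span {x | x ∈ s.toList}) :=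
    Scheme.IdealSheafData.ext_of_isAffine (by
      have : {x | x ∈ s.toList} = (s : Set Γ(X, ⊤)) := by ext; simp
      rw [this]
      simp [Ideal.span, hs])
  refine fine_of_principal hz hsq s.toList.length s.toList le_rfl R fun W a hW hW' ⟨h, hh⟩ => ?_
  -- split `W` along the principal ideal
  let H := Scheme.IdealSheafData.ofIdealTop (Ideal.span {h})
  have hH : G.comap a = H := by rw [hG, comap_ofIdealTop, hh]
  obtain ⟨BW, bW, hbW⟩ := Groth.Agent.BlowUp.Glue.exists_isBlowUp W H
  refine fine_square hz hsq (square_of_isBlowUp hbW) h h ?_ _ ?_ ?_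
  · rw [Scheme.IdealSheafData.ker_subschemeι, Set.pair_eq_singleton]
  · show R (H.subschemeι ≫ a)
    have hle : G.subschemeι.ker ≤ (H.subschemeι ≫ a).ker := by
      rw [Scheme.IdealSheafData.ker_subschemeι, Scheme.Hom.ker_comp, Scheme.IdealSheafData.ker_subschemeι,
        ← hH]
      exact Scheme.IdealSheafData.le_map_iff_comap_le.2 le_rfl
    rw [← IsClosedImmersion.lift_fac G.subschemeι (H.subschemeι ≫ a) hle]
    exact R.downward_closed hRZ _
  · show R (bW ≫ a)
    obtain ⟨l, hl, -⟩ := hb.2 BW (bW ≫ a) (by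
      rw [Scheme.IdealSheafData.comap_comp, hH]
      exact hbW.1)
    rw [← hl]
    exact R.downward_closed hRb _

end Groth.Agent.HTopFlat
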